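import Groth.Agent.HenselLib.SchemeFinitePart
import Groth.Agent.CAlgSmall.ProjAffine
import Groth.Agent.Models7.NodePreimage.Smooth
import Groth.Agent.Models7.SteinContract
import Groth.Agent.Inters29.Exist
import Groth.Agent.FlatMorPush.FiniteSet
import Groth.Prelude.Def_BlowUp2

/-!
# Horizontal divisors through given closed points over a henselian base
-/

set_option autoImplicit false
set_option backward.isDefEq.respectTransparency false
set_option linter.style.haveILetI false

universe u

open CategoryTheory CategoryTheory.Limits AlgebraicGeometry TopologicalSpace IsLocalRing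

namespace Groth.Agent.Models7.HenselContract

/-- The kernel of a localised surjection with principal kernel is principal. -/
theorem ker_eq_span_of_localization {A B A' B' : Type u} [CommRing A] [CommRing B] [CommRing A'] [CommRing B']
    [Algebra A A'] [Algebra B B'] (φ : A →+* B) {f : A} (hker : RingHom.ker φ = Ideal.span {f}) (g : A)
    [IsLocalization.Away g A'] [IsLocalization.Away (φ g) B'] (ψ : A' →+* B')
    (hψ : ∀ a, ψ (algebraMap A A' a) = algebraMap B B' (φ a)) :
    RingHom.ker ψ = Ideal.span {algebraMap A A' f} := by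
  refine le_antisymm (fun z hz => ?_) ?_
  · obtain ⟨n, a, ha⟩ := IsLocalization.Away.surj g z
    have h1 : algebraMap B B' (φ a) = algebraMap B B' 0 := by
      rw [← hψ, ← ha, map_mul, RingHom.mem_ker.1 hz, zero_mul, map_zero]
    obtain ⟨m, hm⟩ := IsLocalization.Away.exists_of_eq (φ g) h1
    have h2 : g ^ m * a ∈ Ideal.span {f} := by
      rw [← hker, RingHom.mem_ker, map_mul, map_pow, hm, mul_zero]
    obtain ⟨c, hc⟩ := Ideal.mem_span_singleton'.1 h2
    have hu : IsUnit (algebraMap A A' g ^ m * algebraMap A A' g ^ n) :=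
      ((IsLocalization.Away.algebraMap_isUnit g).pow m).mul ((IsLocalization.Away.algebraMap_isUnit g).pow n)
    rw [← Ideal.unit_mul_mem_iff_mem _ hu]
    refine Ideal.mem_span_singleton'.2 ⟨algebraMap A A' c, ?_⟩
    rw [← map_mul, hc, map_mul, map_pow, ← ha]
    ring
  · rw [Ideal.span_le, Set.singleton_subset_iff, SetLike.mem_coe, RingHom.mem_ker, hψ,
      RingHom.mem_ker.1 (hker.ge (Ideal.mem_span_singleton_self f)), map_zero]

variable {R : Type u} [CommRing R] [IsDomain R] [IsDiscreteValuationRing R] {X : Over (Spec (CommRingCat.of R))}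

/-- Finitely many points of an open set of a projective scheme lie in an affine open inside it. -/
theorem exists_affine_finite (hproj : Neron.IsProjectiveOver R X) (O : X.left.Opens) (E : Set X.left)
    (hE : E.Finite) (hEO : E ⊆ (O : Set X.left)) :
    ∃ U : X.left.Opens, IsAffineOpen U ∧ E ⊆ (U : Set X.left) ∧ U ≤ O := by
  obtain ⟨n, i, hi, -⟩ := hproj
  haveI := hi
  let j : X.left ⟶ CohB1.ProjSpace n (ULift.{u} ℤ) := i ≫ pullback.fst _ _
  haveI : IsAffineHom (specULiftZIsTerminal.from (Spec (CommRingCat.of R))) := inferInstance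
  haveI : IsAffineHom (pullback.fst (CohB1.ProjSpace.toSpec n (ULift.{u} ℤ))
      (specULiftZIsTerminal.from (Spec (CommRingCat.of R)))) :=
    MorphismProperty.pullback_fst _ _ inferInstance
  haveI : IsAffineHom j := inferInstanceAs (IsAffineHom (i ≫ pullback.fst _ _))
  obtain ⟨V, hV, hEV, -⟩ := CAlgSmall.ProjAffine.exists_basicOpen_le _ ⊤ (j '' E) (hE.image _) fun _ _ => trivial
  have hU₀ : IsAffineOpen (j ⁻¹ᵁ V) := hV.preimage j
  obtain ⟨g, hgO, hEg⟩ := FlatMorPush.exists_basicOpen_finite hU₀ O hE hEO fun e he => hEV ⟨e, he, rfl⟩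
  exact ⟨_, hU₀.basicOpen g, hEg, hgO⟩

/-- The points of the special fibre which are not closed are finite in number. -/
theorem finite_nonclosed [IsIntegral X.left] [IsProper X.hom] [Flat X.hom] (hdim : topologicalKrullDim X.left = 2) :
    {g : X.left | X.hom g = closedPoint R ∧ ¬ IsClosed ({g} : Set X.left)}.Finite := by
  haveI : IsLocallyNoetherian X.left := LocallyOfFiniteType.isLocallyNoetherian X.hom
  obtain ⟨n, Γ, hΓ⟩ := Inters29.exists_componentList R (X := X) hdim
  have hη : X.hom (genericPoint X.left) ≠ closedPoint R := by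
    rw [Inters29.hom_genericPoint R (genericPoint X.left)]; exact Inters29.bot_ne_closedPoint R
  haveI : IsLocallyNoetherian X.left := LocallyOfFiniteType.isLocallyNoetherian X.hom
  refine (Set.finite_range fun i => (Γ i).ι (genericPoint (Γ i).curve.left)).subset ?_
  rintro g ⟨hg, hgc⟩
  obtain ⟨i, hi⟩ := Inters29.exists_genPt_specializes R Γ hΓ (show g ∈ Models.specialFibreSet R X from hg)
  refine ⟨i, ?_⟩
  by_contra hne
  exact hgc (isClosed_of_specializes_dim_two hdim.le hi hne fun h => hη (by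
    rw [← h]; exact Inters29.range_subset_specialFibreSet R (Γ i) ⟨_, rfl⟩))

variable [HenselianLocalRing R]

/-- **Horizontal divisors through points.** Over a henselian base, finitely many closed points of the
special fibre off a closed set lie on an effective Cartier divisor with affine support, which avoids
the closed set and all non-closed points of the special fibre. -/
theorem exists_divisor [IsIntegral X.left] [IsProper X.hom] [Flat X.hom]
    (hdim : topologicalKrullDim X.left = 2) (hproj : Neron.IsProjectiveOver R X)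
    (G : Set X.left) (hG : IsClosed G) (hGη : genericPoint X.left ∉ G) (T : Finset X.left)
    (hT : ∀ t ∈ T, X.hom t = closedPoint R ∧ IsClosed ({t} : Set X.left) ∧ t ∉ G) :
    ∃ J : X.left.IdealSheafData, BlowUp.IsEffCartierIdeal J ∧ IsAffine J.subscheme ∧
      Disjoint (J.support : Set X.left) G ∧ (↑T : Set X.left) ⊆ J.support ∧
      ∀ z ∈ (J.support : Set X.left), X.hom z = closedPoint R → IsClosed ({z} : Set X.left) := by
  classical
  haveI : IsLocallyNoetherian X.left := LocallyOfFiniteType.isLocallyNoetherian X.hom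
  haveI : CompactSpace X.left := QuasiCompact.compactSpace_of_compactSpace X.hom
  haveI : IsNoetherian X.left := {}
  let Sg : Set X.left := {g | X.hom g = closedPoint R ∧ ¬ IsClosed ({g} : Set X.left)}
  obtain ⟨U, hU, hEU, hUG⟩ := exists_affine_finite hproj ⟨Gᶜ, hG.isOpen_compl⟩
    ((↑T : Set X.left) ∪ {genericPoint X.left}) (T.finite_toSet.union (Set.finite_singleton _)) (by
      rintro x (hx | rfl)
      · exact (hT x hx).2.2
      · exact hGη)
  let A := Γ(X.left, U)
  let pr : U → Ideal A := fun z => (hU.primeIdealOf z).asIdeal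
  have hpr : ∀ a b : U, pr a ≤ pr b → a.1 ⤳ b.1 := fun a b h =>
    (EGA43.Unibranch.primeIdealOf_le_iff' hU a b).1 h
  -- an equation
  let Bad : Set U := {z | z.1 ∈ Sg ∨ z.1 = genericPoint X.left}
  have hBad : Bad.Finite := by
    refine Set.Finite.subset (((finite_nonclosed hdim).union (Set.finite_singleton (genericPoint X.left))).preimage
      Subtype.val_injective.injOn) ?_
    rintro z (hz | hz)
    · exact Or.inl hz
    · exact Or.inr hz
  let I : Ideal A := T.attach.inf fun t => pr ⟨t.1, hEU (Or.inl t.2)⟩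
  obtain ⟨f, hfI, hfB⟩ : ∃ f ∈ I, ∀ z ∈ Bad, f ∉ pr z := by
    by_contra hcon
    push Not at hcon
    have hsub : (I : Set A) ⊆ ⋃ z ∈ (↑hBad.toFinset : Set U), (pr z : Set A) := fun a ha => by
      obtain ⟨z, hz, haz⟩ := hcon a ha
      exact Set.mem_biUnion (by simpa using hz) haz
    obtain ⟨z, hz, hle⟩ := (Ideal.subset_union_prime (⟨_, hEU (Or.inr rfl)⟩ : U) ⟨_, hEU (Or.inr rfl)⟩
      (fun z _ _ _ => (hU.primeIdealOf z).2)).1 hsub
    obtain ⟨t, -, ht⟩ := (Ideal.IsPrime.inf_le' (hU.primeIdealOf z).2).1 hle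
    have htz := hpr ⟨t.1, hEU (Or.inl t.2)⟩ z ht
    have h1 : z.1 = t.1 := htz.mem_closed (hT t.1 t.2).2.1 rfl
    rcases (hBad.mem_toFinset.1 hz : z ∈ Bad) with h | h
    · exact h.2 (h1 ▸ (hT t.1 t.2).2.1)
    · have h2 := (hT t.1 t.2).1
      rw [← h1, h, Inters29.hom_genericPoint R (genericPoint X.left)] at h2
      exact Inters29.bot_ne_closedPoint R h2
  -- the closed subscheme of the affine open
  let π : CommRingCat.of A ⟶ CommRingCat.of (A ⧸ Ideal.span {f}) := CommRingCat.ofHom (Ideal.Quotient.mk _)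
  haveI : IsClosedImmersion (Spec.map π) := IsClosedImmersion.spec_of_surjective _ Ideal.Quotient.mk_surjective
  let ψ : Spec (CommRingCat.of (A ⧸ Ideal.span {f})) ⟶ X.left := Spec.map π ≫ hU.fromSpec
  haveI : Mono ψ := inferInstance
  have hψU : ∀ z, ψ z ∈ U := fun z => hU.range_fromSpec.le ⟨Spec.map π z, rfl⟩
  have hψf : ∀ z, f ∈ pr ⟨ψ z, hψU z⟩ := fun z => by
    have h1 : hU.primeIdealOf ⟨ψ z, hψU z⟩ = Spec.map π z :=
      hU.fromSpec.isOpenEmbedding.injective (hU.fromSpec_primeIdealOf _)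
    show f ∈ (hU.primeIdealOf ⟨ψ z, hψU z⟩).asIdeal
    rw [h1]
    show Ideal.Quotient.mk _ f ∈ (z : PrimeSpectrum (A ⧸ Ideal.span {f})).asIdeal
    rw [Ideal.Quotient.eq_zero_iff_mem.2 (Ideal.mem_span_singleton_self f)]
    exact zero_mem _
  let q := ψ ≫ X.hom
  have hclosed : ∀ z, q z = closedPoint R → IsClosed ({ψ z} : Set X.left) := fun z hz => by
    by_contra hc
    exact hfB ⟨ψ z, hψU z⟩ (Or.inl ⟨hz, hc⟩) (hψf z)
  haveI : LocallyOfFiniteType q := inferInstance
  have hqf : ∀ z, q z = closedPoint R → q.QuasiFiniteAt z := fun z hz => by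
    refine NodePreimage.quasiFiniteAt_of_finite q z ?_
    rw [hz]
    haveI : IsNoetherianRing A := IsLocallyNoetherian.component_noetherian ⟨U, hU⟩
    haveI : NoetherianSpace ↥(Spec (CommRingCat.of (A ⧸ Ideal.span {f}))) :=
      inferInstanceAs (NoetherianSpace (PrimeSpectrum (A ⧸ Ideal.span {f})))
    have hcl : ∀ w, q w = closedPoint R → IsClosed ({w} : Set ↥(Spec (CommRingCat.of (A ⧸ Ideal.span {f})))) := by
      intro w hw
      have := (hclosed w hw).preimage ψ.continuous
      rwa [show (ψ.base ⁻¹' {ψ w} : Set _) = {w} from Set.ext fun v =>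
        ⟨fun h => ψ.isEmbedding.injective h, fun h => congrArg ψ.base h⟩] at this
    obtain ⟨S, hS1, hS2, hS3, hS4⟩ := NoetherianSpace.exists_finite_set_isClosed_irreducible
      ((IsLocalRing.isClosed_singleton_closedPoint R).preimage q.continuous)
    rw [hS4]
    refine Set.Finite.sUnion hS1 fun t ht => ?_
    obtain ⟨w, hw⟩ := QuasiSober.sober (hS3 t ht) (hS2 t ht)
    have hwq : q w = closedPoint R := hS4.ge ⟨t, ht, hw.mem⟩
    rw [← hw.def, (hcl w hwq).closure_eq]
    exact Set.finite_singleton w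
  let Z₀ := q.quasiFiniteLocus
  haveI : IsNoetherian (Spec (CommRingCat.of (A ⧸ Ideal.span {f}))) := by
    haveI : IsNoetherianRing A := IsLocallyNoetherian.component_noetherian ⟨U, hU⟩
    infer_instance
  haveI : LocallyQuasiFinite (Z₀.ι ≫ q) := inferInstance
  haveI : QuasiCompact (Z₀.ι ≫ q) := inferInstance
  haveI : IsSeparated (Z₀.ι ≫ q) := inferInstance
  obtain ⟨W, -, hWf, hWs⟩ := HenselLib.SchemeFinite.exists_finitePart (Z₀.ι ≫ q)
  haveI := hWf
  let ι : W.toScheme ⟶ X.left := W.ι ≫ Z₀.ι ≫ ψ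
  haveI : IsFinite (ι ≫ X.hom) := by
    show IsFinite ((W.ι ≫ Z₀.ι ≫ ψ) ≫ X.hom)
    simpa only [Category.assoc] using hWf
  haveI : IsFinite ι := IsFinite.of_comp ι X.hom
  haveI : Mono ι := inferInstance
  haveI : IsClosedImmersion ι := (IsClosedImmersion.iff_isFinite_and_mono ι).2 ⟨inferInstance, inferInstance⟩
  haveI : IsAffine W.toScheme := isAffine_of_isAffineHom (W.ι ≫ Z₀.ι ≫ q)
  have hsupp : (ι.ker.support : Set X.left) = Set.range ι := by
    rw [Scheme.Hom.support_ker, ι.isClosedEmbedding.isClosed_range.closure_eq]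
  refine ⟨ι.ker, fun y => ?_, ?_, ?_, ?_, ?_⟩
  · -- effective Cartier
    by_cases hy : y ∈ Set.range ι
    · let W' : (Spec (CommRingCat.of (A ⧸ Ideal.span {f}))).Opens := Z₀.ι ''ᵁ W
      let O : (Spec (CommRingCat.of A)).Opens :=
        ⟨(Spec.map π '' (W' : Set _)ᶜ)ᶜ, ((Spec.map π).isClosedMap _ W'.isOpen.isClosed_compl).isOpen_compl⟩
      obtain ⟨w, rfl⟩ := hy
      have hwO : Spec.map π (Z₀.ι (W.ι w)) ∈ O := by
        rintro ⟨c, hc, hce⟩
        rw [(Spec.map π).isClosedEmbedding.injective hce] at hc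
        exact hc ⟨W.ι w, w.2, rfl⟩
      obtain ⟨_, ⟨g, rfl⟩, hwg, hgO⟩ :=
        (PrimeSpectrum.isTopologicalBasis_basic_opens (R := A)).exists_subset_of_mem_open hwO O.isOpen
      let Vg : X.left.affineOpens := ⟨X.left.basicOpen g, hU.basicOpen g⟩
      refine ⟨Vg, ?_, X.left.presheaf.map (homOfLE (X.left.basicOpen_le g)).op f, ?_, ?_⟩
      · show hU.fromSpec (Spec.map π (Z₀.ι (W.ι w))) ∈ X.left.basicOpen g
        exact (hU.fromSpec_preimage_basicOpen g).ge hwg
      · haveI : Nonempty (X.left.basicOpen g : X.left.Opens) := ⟨⟨_, (hU.fromSpec_preimage_basicOpen g).ge hwg⟩⟩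
        haveI : Nonempty U := ⟨⟨_, hEU (Or.inr rfl)⟩⟩
        refine mem_nonZeroDivisors_of_ne_zero fun h0 => ?_
        have h1 := map_injective_of_isIntegral X.left (homOfLE (X.left.basicOpen_le g))
          (h0.trans (map_zero _).symm)
        exact hfB ⟨_, hEU (Or.inr rfl)⟩ (Or.inr rfl) (by rw [h1]; exact zero_mem _)
      · rw [Scheme.Hom.ker_apply]
        have hpre : ψ ⁻¹ᵁ Vg.1 ≤ (W.ι ≫ Z₀.ι).opensRange := by
          intro c hc
          have h1 : Spec.map π c ∈ PrimeSpectrum.basicOpen g := (hU.fromSpec_preimage_basicOpen g).le hc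
          have h2 : Spec.map π c ∈ O := hgO h1
          obtain ⟨a, ha, rfl⟩ : c ∈ W' := by
            by_contra hcW
            exact h2 ⟨c, hcW, rfl⟩
          exact ⟨⟨a, ha⟩, rfl⟩
        haveI : IsIso ((W.ι ≫ Z₀.ι).app (ψ ⁻¹ᵁ Vg.1)) := (W.ι ≫ Z₀.ι).isIso_app _ hpre
        have happ : RingHom.ker (ι.app Vg.1).hom = RingHom.ker (ψ.app Vg.1).hom := by
          have h1 : ι = (W.ι ≫ Z₀.ι) ≫ ψ := (Category.assoc _ _ _).symm
          rw [h1, Scheme.Hom.comp_app, CommRingCat.hom_comp,
            RingHom.ker_comp_of_injective _ (ConcreteCategory.bijective_of_isIso _).1]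
        rw [happ]
        let φA : A →+* Γ(Spec (CommRingCat.of (A ⧸ Ideal.span {f})), ψ ⁻¹ᵁ U) := (ψ.app U).hom
        haveI := hU.isLocalization_basicOpen g
        have hZU : IsAffineOpen (ψ ⁻¹ᵁ U) := by
          rw [show ψ ⁻¹ᵁ U = ⊤ from top_le_iff.1 fun z _ => hψU z]; exact isAffineOpen_top _
        have hZg : ψ ⁻¹ᵁ Vg.1 = (Spec (CommRingCat.of (A ⧸ Ideal.span {f}))).basicOpen (φA g) :=
          Scheme.preimage_basicOpen ψ g
        haveI := hZU.isLocalization_of_eq_basicOpen (φA g) (homOfLE (ψ.preimage_mono (X.left.basicOpen_le g))) hZg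
        letI := ((Spec (CommRingCat.of (A ⧸ Ideal.span {f}))).presheaf.map
          (homOfLE (ψ.preimage_mono (X.left.basicOpen_le g))).op).hom.toAlgebra
        refine ker_eq_span_of_localization φA ?_ g _ (fun a => ?_)
        · -- the kernel of restriction to the closed subscheme
          have hker : ∀ a : A, φA a = 0 ↔ Ideal.Quotient.mk (Ideal.span {f}) a = 0 := fun a => by
            have htop : ψ ⁻¹ᵁ U = ⊤ := top_le_iff.1 fun z _ => hψU z
            haveI : IsIso (homOfLE htop.ge) := ⟨⟨homOfLE htop.le, rfl, rfl⟩⟩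
            haveI : IsIso ((Spec (CommRingCat.of (A ⧸ Ideal.span {f}))).presheaf.map (homOfLE htop.ge).op) :=
              inferInstance
            have h1 : ψ.appLE U ⊤ htop.ge = π ≫ (Scheme.ΓSpecIso _).inv := by
              show (Spec.map π ≫ hU.fromSpec).appLE U ⊤ _ = _
              rw [Scheme.Hom.comp_appLE, hU.fromSpec_app_self, Category.assoc, Scheme.Hom.map_appLE,
                show (Spec.map π).appLE ⊤ ⊤ le_top = (Spec.map π).appTop from Scheme.Hom.appLE_eq_app .., Scheme.ΓSpecIso_inv_naturality]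
              rfl
            have h2 : (ψ.appLE U ⊤ htop.ge) a = 0 ↔ φA a = 0 := by
              rw [Scheme.Hom.appLE, CommRingCat.comp_apply,
                map_eq_zero_iff _ (ConcreteCategory.bijective_of_isIso
                  ((Spec (CommRingCat.of (A ⧸ Ideal.span {f}))).presheaf.map (homOfLE htop.ge).op)).1]
            rw [← h2, h1, CommRingCat.comp_apply,
              map_eq_zero_iff _ (ConcreteCategory.bijective_of_isIso (Scheme.ΓSpecIso _).inv).1]
            rfl
          ext a
          rw [RingHom.mem_ker, hker, Ideal.Quotient.eq_zero_iff_mem]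
        · exact ConcreteCategory.congr_hom (ψ.naturality (homOfLE (X.left.basicOpen_le g)).op) a
    · obtain ⟨V, hV, hyV, hVι⟩ := exists_isAffineOpen_mem_and_subset (x := y)
        (U := ⟨(Set.range ι)ᶜ, ι.isClosedEmbedding.isClosed_range.isOpen_compl⟩) hy
      refine ⟨⟨V, hV⟩, hyV, 1, one_mem _, ?_⟩
      have hbot : ι ⁻¹ᵁ V = ⊥ := le_bot_iff.1 fun w hw => hVι hw ⟨w, rfl⟩
      haveI : Subsingleton Γ(W.toScheme, ι ⁻¹ᵁ V) := by rw [hbot]; infer_instance
      rw [Scheme.Hom.ker_apply, Ideal.span_singleton_one]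
      exact eq_top_iff.2 fun a _ => RingHom.mem_ker.2 (Subsingleton.elim _ _)
  · haveI : IsIso ι.toImage := inferInstance
    exact IsAffine.of_isIso (inv ι.toImage)
  · rw [hsupp, Set.disjoint_left]
    rintro _ ⟨w, rfl⟩ h
    exact hUG (hψU _) h
  · intro t ht
    rw [hsupp]
    have hf : f ∈ pr ⟨t, hEU (Or.inl ht)⟩ :=
      (Finset.inf_le (f := fun t : T => pr ⟨t.1, hEU (Or.inl t.2)⟩) (Finset.mem_attach _ ⟨t, ht⟩)) hfI
    let p0 := (hU.primeIdealOf ⟨t, hEU (Or.inl ht)⟩)
    let z : Spec (CommRingCat.of (A ⧸ Ideal.span {f})) :=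
      ⟨p0.asIdeal.map (Ideal.Quotient.mk _), Ideal.map_isPrime_of_surjective Ideal.Quotient.mk_surjective
        (by rw [Ideal.mk_ker, Ideal.span_le, Set.singleton_subset_iff]; exact hf)⟩
    have hz : ψ z = t := by
      have h1 : Spec.map π z = p0 := PrimeSpectrum.ext (by
        show Ideal.comap (Ideal.Quotient.mk _) (p0.asIdeal.map (Ideal.Quotient.mk _)) = _
        rw [Ideal.comap_map_of_surjective _ Ideal.Quotient.mk_surjective, ← RingHom.ker_eq_comap_bot,
          Ideal.mk_ker, sup_eq_left, Ideal.span_le, Set.singleton_subset_iff]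
        exact hf)
      show hU.fromSpec (Spec.map π z) = t
      rw [h1]; exact hU.fromSpec_primeIdealOf _
    have hq : q z = closedPoint R := by show X.hom (ψ z) = _; rw [hz]; exact (hT t ht).1
    refine ⟨⟨⟨z, hqf z hq⟩, hWs _ hq⟩, hz⟩
  · rw [hsupp]
    rintro _ ⟨w, rfl⟩ hw
    exact hclosed (Z₀.ι (W.ι w)) hw

end Groth.Agent.Models7.HenselContract
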