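import Groth.Agent.Clifford24.Lipman.ClosedSub
import Groth.Agent.Coherent.GradedCoh
import Groth.Agent.Coherent.ProperFinite
import Groth.Agent.Desc19b.AmpleFamily
import Groth.Agent.AmpleLib.Power
import Groth.Agent.PicLib.PicMonoid
import Groth.Agent.PicLib.FormalGen
import Groth.Agent.EulerLib.SupportVanishing

/-!
# Powers of a divisor with affine support are generated by global sections
-/

set_option autoImplicit false
set_option backward.isDefEq.respectTransparency.types false
set_option linter.style.haveILetI false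

universe u

open CategoryTheory CategoryTheory.Limits AlgebraicGeometry Opposite TopologicalSpace
open Groth.Agent.Coherent Groth.Agent.PicLib Groth.Agent.AmpleLib Groth.Agent.EulerLib

namespace Groth.Agent.Models7.HenselContract

/-- A chain of surjections starting at a Noetherian module is eventually injective. -/
theorem exists_injective_of_surjective_chain {A : Type u} [CommRing A] {V : ℕ → Type u}
    [∀ n, AddCommGroup (V n)] [∀ n, Module A (V n)] [IsNoetherian A (V 0)] (g : ∀ n, V n →ₗ[A] V (n + 1))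
    (hg : ∀ n, Function.Surjective (g n)) : ∃ N, ∀ n ≥ N, Function.Injective (g n) := by
  let c : ∀ n, V 0 →ₗ[A] V n := fun n => Nat.rec LinearMap.id (fun k ck => (g k).comp ck) n
  have hcs : ∀ n, Function.Surjective (c n) := fun n => by
    induction n with
    | zero => exact Function.surjective_id
    | succ k ih => exact (hg k).comp ih
  let K : ℕ →o Submodule A (V 0) := ⟨fun n => LinearMap.ker (c n), monotone_nat_of_le_succ fun n z hz => by
    show g n (c n z) = 0
    rw [LinearMap.mem_ker.1 hz, map_zero]⟩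
  obtain ⟨N, hN⟩ := monotone_stabilizes_iff_noetherian.2 (inferInstance : IsNoetherian A (V 0)) K
  refine ⟨N, fun n hn => (injective_iff_map_eq_zero _).2 fun a ha => ?_⟩
  obtain ⟨z, rfl⟩ := hcs n a
  have h1 : z ∈ K (n + 1) := ha
  rw [← hN (n + 1) (by omega), hN n hn] at h1
  exact h1

variable {X : Scheme.{u}}

/-- Sections lift when `H¹` of the kernel injects. -/
theorem surjective_pullSec_of_injective {Z : Scheme.{u}} (i : Z ⟶ X) [IsClosedImmersion i] {L : X.Modules}
    {A : Type u} [CommRing A] (φ : A →+* Γ(X, ⊤))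
    (h : Function.Injective (postA φ (kernel.ι (clUnit i L)) (⊤ : X.Opens) 1)) :
    Function.Surjective (pullSec i (L := L) (U := ⊤)) := by
  haveI : Epi (clUnit i L) := epi_clUnit i
  let S : ShortComplex X.Modules := ShortComplex.mk (kernel.ι (clUnit i L)) (clUnit i L) (kernel.condition _)
  have hS : S.ShortExact := { exact := ShortComplex.exact_kernel (clUnit i L) }
  intro x
  have h0 : deltaA φ hS ⊤ 0 ((secA φ S.X₃).symm x) = 0 := by
    refine h ?_
    rw [map_zero]
    exact (exact_deltaA_postA φ hS ⊤ 0 _).2 ⟨_, rfl⟩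
  obtain ⟨y, hy⟩ := (exact_postA_deltaA φ hS ⊤ 0 _).1 h0
  refine ⟨secA φ S.X₂ y, ?_⟩
  rw [← LinearEquiv.apply_symm_apply (secA φ S.X₃) x, ← hy]
  exact (secA_natural φ S.g y).symm

theorem surjective_postA_of_epi {A : Type u} [CommRing A] (φ : A →+* Γ(X, ⊤)) (hv : Lipman24.NoH2 X)
    {F G : X.Modules} (hF : Coh.IsQCoh F) (hG : Coh.IsQCoh G) (π : F ⟶ G) [Epi π] :
    Function.Surjective (postA φ π (⊤ : X.Opens) 1) := by
  haveI := hF
  haveI := hG
  let S : ShortComplex X.Modules := ShortComplex.mk (kernel.ι π) π (kernel.condition π)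
  have hS : S.ShortExact := { exact := ShortComplex.exact_kernel π }
  intro x
  haveI : Subsingleton (HA φ S.X₁ (⊤ : X.Opens) (1 + 1)) :=
    (subsingleton_HH_iff _ _).1 (hv _ (isQCoh_kernel π))
  exact (exact_postA_deltaA φ hS ⊤ 1 x).1 (Subsingleton.elim _ _)

variable [IsLocallyNoetherian X] (J : X.IdealSheafData) [IsAffine J.subscheme]

/-- `H¹` of the twisted ideal surjects onto `H¹` of the module when the subscheme is affine. -/
theorem exists_surjective_map {A : Type u} [CommRing A] (φ : A →+* Γ(X, ⊤)) (hv : Lipman24.NoH2 X) {L : X.Modules}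
    (hL : PicF.IsInvertible L) :
    ∃ μ : CohB1.tensorMod (ClSub.idealMod J) L ⟶ kernel (clUnit J.subschemeι L),
      Function.Surjective (postA φ μ (⊤ : X.Opens) 1) ∧
      Function.Surjective (postA φ (μ ≫ kernel.ι _) (⊤ : X.Opens) 1) := by
  haveI hq : Coh.IsQCoh L := isQCoh_of_isInvertible hL
  haveI hP : Coh.IsQCoh ((Scheme.Modules.pullback J.subschemeι).obj L) :=
    EGA43.InjFibre.isQCoh_pullback J.subschemeι L
  haveI : Coh.IsQCoh ((Coh.push J.subschemeι).obj ((Scheme.Modules.pullback J.subschemeι).obj L)) :=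
    isQCoh_push J.subschemeι _
  have hz : AmpleLib.twistMul J L ≫ clUnit J.subschemeι L = 0 := AmpleLib.hom_ext fun U a b => by
    show pullSec J.subschemeι ((AmpleLib.twistMul J L).app U (tmul a b)) = _
    rw [AmpleLib.twistMul_tmul, pullSec_smul, (mem_range_idealModι J U _).1 ⟨a, rfl⟩, zero_smul]
    rfl
  let μ : CohB1.tensorMod (ClSub.idealMod J) L ⟶ kernel (clUnit J.subschemeι L) :=
    kernel.lift _ (AmpleLib.twistMul J L) hz
  haveI : Epi μ := by
    refine epi_of_locally_surjective _ fun W m y hy => ?_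
    obtain ⟨V, hyV, g, hg⟩ := exists_isGen hL y
    let U := W ⊓ V
    let g' := resM L (inf_le_right : U ≤ V) g
    have hg' : IsGen L U g' := hg.restrict inf_le_right
    let m' : Γ(L, U) := (kernel.ι (clUnit J.subschemeι L)).app U (resM _ inf_le_left m)
    obtain ⟨r, hr⟩ := (hg' U le_rfl).2 m'
    beta_reduce at hr
    rw [resM_self] at hr
    have h0 : pullSec J.subschemeι m' = 0 := kernel_ι_app_zero (clUnit J.subschemeι L) U _
    rw [← hr, pullSec_smul] at h0
    have hr0 : J.subschemeι.app U r = 0 := by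
      refine ((isGen_pullSec J.subschemeι hg' hL) _ le_rfl).1 ?_
      show J.subschemeι.app U r • resM _ le_rfl _ = (0 : Γ(J.subscheme, _)) • resM _ le_rfl _
      rw [resM_self, h0, zero_smul]
    obtain ⟨c, hc⟩ := (mem_range_idealModι J U r).2 hr0
    refine ⟨U, inf_le_left, ⟨hy, hyV⟩, tmul c g', ?_⟩
    refine app_injective_of_mono (kernel.ι (clUnit J.subschemeι L)) U ?_
    refine Eq.trans ?_ hr
    show ((μ ≫ kernel.ι _).app U) (tmul c g') = _
    rw [kernel.lift_ι, AmpleLib.twistMul_tmul, hc]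
  haveI : Coh.IsQCoh (ClSub.idealMod J) := (CurveRR24.isCoh_idealMod' J).1
  have hμ := surjective_postA_of_epi φ hv (isQCoh_tensor_invertible _ hL) (isQCoh_kernel _) μ
  refine ⟨μ, hμ, fun x => ?_⟩
  haveI : Epi (clUnit J.subschemeι L) := epi_clUnit J.subschemeι
  let S : ShortComplex X.Modules :=
    ShortComplex.mk (kernel.ι (clUnit J.subschemeι L)) (clUnit J.subschemeι L) (kernel.condition _)
  have hS : S.ShortExact := { exact := ShortComplex.exact_kernel _ }
  haveI : Subsingleton (HA φ S.X₃ (⊤ : X.Opens) 1) :=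
    (subsingleton_HH_iff _ _).1 ((HHAffinePushEquiv J.subschemeι _ 1).toEquiv.subsingleton_congr.1
      (subsingleton_HH_of_isAffine _ 1 one_pos))
  obtain ⟨z, hz'⟩ := (exact_postA φ hS ⊤ 1 x).1 (Subsingleton.elim _ _)
  obtain ⟨y, rfl⟩ := hμ z
  exact ⟨y, by rw [postA_comp]; exact hz'⟩

/-- **Powers of a divisor with affine support are generated by global sections.** -/
theorem eventually_generated_power {A : Type u} [CommRing A] [IsNoetherianRing A] (φ : A →+* Γ(X, ⊤))
    (hfin : FinCoh φ) (hv : Lipman24.NoH2 X) {L : X.Modules} (hL : PicF.IsInvertible L)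
    (hinv : ClSub.IsInverseOf L (ClSub.idealMod J)) (hJ : PicF.IsInvertible (ClSub.idealMod J))
    (u : Γ(L, ⊤)) (hu : (glocus L u : Set X) = (J.support : Set X)ᶜ) :
    ∃ N₀ : ℕ, ∀ m, N₀ ≤ m →
      (glocus (CohB1.tensorPow L (m + 1)) (powSec u (m + 1)) : Set X) = (J.support : Set X)ᶜ ∧
      Lipman24.Gl (CohB1.tensorPow L (m + 1)) := by
  let P : ℕ → X.Modules := fun n => CohB1.tensorPow L n
  have hP : ∀ n, PicF.IsInvertible (P n) := isInvertible_tensorPow hL
  have hcl : PicM.of hJ * PicM.of hL = 1 := by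
    obtain ⟨t⟩ := hinv
    rw [mul_comm, PicM.of_mul, PicM.of_eq_one_iff]; exact ⟨t⟩
  have hi : ∀ n, Nonempty (P n ≅ CohB1.tensorMod (ClSub.idealMod J) (P (n + 1))) := fun n => by
    refine (PicM.of_eq_iff (hP n) (isInvertible_tensorMod hJ (hP (n + 1)))).1 ?_
    rw [← PicM.of_mul hJ (hP (n + 1)), PicM.of_tensorPow hL, PicM.of_tensorPow hL, pow_succ',
      ← mul_assoc, hcl, one_mul]
  choose μ hμ hμι using fun n => exists_surjective_map J φ hv (hP (n + 1))
  let i := fun n => (hi n).some
  let g : ∀ n, P n ⟶ P (n + 1) := fun n => (i n).hom ≫ μ n ≫ kernel.ι _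
  have hisurj : ∀ n, Function.Surjective (postA φ (i n).hom (⊤ : X.Opens) 1) := fun n =>
    (isoA φ (i n) ⊤ 1).surjective
  have hg : ∀ n, Function.Surjective (postA φ (g n) (⊤ : X.Opens) 1) := fun n x => by
    obtain ⟨y, rfl⟩ := hμι n x
    obtain ⟨z, rfl⟩ := hisurj n y
    exact ⟨z, by rw [postA_comp]⟩
  haveI : IsNoetherian A (HA φ (P 0) (⊤ : X.Opens) 1) := by
    haveI := hfin (P 0) (isCoh_of_isInvertible (hP 0)) 1
    exact isNoetherian_of_isNoetherianRing_of_finite A _
  obtain ⟨N, hN⟩ := exists_injective_of_surjective_chain (V := fun n => HA φ (P n) (⊤ : X.Opens) 1)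
    (fun n => postA φ (g n) ⊤ 1) hg
  refine ⟨N, fun m hm => ?_⟩
  have hinj : Function.Injective (postA φ (kernel.ι (clUnit J.subschemeι (P (m + 1)))) (⊤ : X.Opens) 1) := by
    refine (injective_iff_map_eq_zero _).2 fun a ha => ?_
    obtain ⟨b, rfl⟩ := hμ m a
    obtain ⟨c, rfl⟩ := hisurj m b
    have : postA φ (g m) (⊤ : X.Opens) 1 c = 0 := by rw [postA_comp, postA_comp]; exact ha
    rw [(injective_iff_map_eq_zero _).1 (hN m hm) c this, map_zero, map_zero]
  have hsurj := surjective_pullSec_of_injective J.subschemeι φ hinj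
  refine ⟨by rw [glocus_powSec hL u m]; exact hu, fun x => ?_⟩
  by_cases hx : x ∈ (J.support : Set X)
  · obtain ⟨z, rfl⟩ := J.range_subschemeι.ge hx
    have hPz := PicLoc.isInvertible_pullback J.subschemeι (hP (m + 1))
    haveI := isQCoh_of_isInvertible hPz
    exact Lipman24.exists_mem_glocus_of_pullback J.subschemeι (hP _) hsurj
      (fun w => Desc19b.exists_mem_glocus_of_gg hPz (globallyGenerated_of_isQuasiAffine _) w) z
  · refine ⟨powSec u (m + 1), ?_⟩
    have h1 : x ∈ (glocus L u : Set X) := by rw [hu]; exact hx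
    rw [glocus_powSec hL u m]
    exact h1

theorem exists_generated_power {A : Type u} [CommRing A] [IsNoetherianRing A] (φ : A →+* Γ(X, ⊤))
    (hfin : FinCoh φ) (hv : Lipman24.NoH2 X) {L : X.Modules} (hL : PicF.IsInvertible L)
    (hinv : ClSub.IsInverseOf L (ClSub.idealMod J)) (hJ : PicF.IsInvertible (ClSub.idealMod J))
    (u : Γ(L, ⊤)) (hu : (glocus L u : Set X) = (J.support : Set X)ᶜ) :
    ∃ (N : X.Modules) (_ : PicF.IsInvertible N) (s : Γ(N, ⊤)),
      (glocus N s : Set X) = (J.support : Set X)ᶜ ∧ Lipman24.Gl N := by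
  obtain ⟨N₀, h⟩ := eventually_generated_power J φ hfin hv hL hinv hJ u hu
  exact ⟨_, isInvertible_tensorPow hL _, _, (h N₀ le_rfl).1, (h N₀ le_rfl).2⟩

end Groth.Agent.Models7.HenselContract
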