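import Groth.Agent.Models7.HenselContract.Generated
import Groth.Agent.Models7.Localise
import Groth.Agent.Models7.ArtinContract

/-!
# Powers of a horizontal divisor on a fibred surface over a Dedekind domain
-/

set_option autoImplicit false
set_option backward.isDefEq.respectTransparency false
set_option linter.style.haveILetI false

universe u

open CategoryTheory CategoryTheory.Limits AlgebraicGeometry TopologicalSpace
open Groth.Agent.Coherent Groth.Agent.PicLib Groth.Agent.AmpleLib

namespace Groth.Agent.Models7.HenselContract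

variable {R : Type u} [CommRing R] [IsDedekindDomain R] {X : Over (Spec (CommRingCat.of R))}

theorem eventually_globallyGenerated_horizontal (hR : ¬ IsField R) [IsIntegral X.left] [IsProper X.hom] [Flat X.hom]
    (hdim : topologicalKrullDim X.left = 2) (D : Scheme.{u}) (d : D ⟶ X.left) [IsClosedImmersion d]
    (hD : BlowUp.IsEffCartierIdeal d.ker)
    (hhor : ∀ p : D, ∃ q : D, q ⤳ p ∧ ((d ≫ X.hom).base q).asIdeal = ⊥)
    (L : X.left.Modules) (hL : ClSub.IsInverseOf L (ClSub.idealMod d.ker)) :
    ∃ m₀ : ℕ, 1 ≤ m₀ ∧ ∀ m : ℕ, m₀ ≤ m → Curv2.IsGloballyGenerated (CohB1.tensorPow L m) := by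
  haveI : IsLocallyNoetherian X.left := LocallyOfFiniteType.isLocallyNoetherian X.hom
  haveI : CompactSpace X.left := QuasiCompact.compactSpace_of_compactSpace X.hom
  haveI : IsNoetherian X.left := {}
  let c := d ≫ X.hom
  have hηD : genericPoint X.left ∉ Set.range d := by
    rintro ⟨z, hz⟩
    obtain ⟨U, hzU, f, hf, hfU⟩ := hD (d z)
    haveI : Nonempty U.1 := ⟨⟨d z, hzU⟩⟩
    have hs : d z ∈ (d.ker.support : Set X.left) := by rw [Scheme.Hom.support_ker]; exact subset_closure ⟨z, rfl⟩
    rw [SetLike.mem_coe, d.ker.mem_support_iff_of_mem hzU, Scheme.mem_zeroLocus_iff, hfU] at hs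
    refine hs f (Ideal.mem_span_singleton_self f) ?_
    rw [hz]
    obtain ⟨y, hy⟩ : (X.left.basicOpen f : Set X.left).Nonempty := by
      by_contra he
      exact nonZeroDivisors.ne_zero hf ((basicOpen_eq_bot_iff f).1
        (Opens.ext (Set.not_nonempty_iff_eq_empty.1 he)))
    exact (genericPoint_specializes y).mem_open (X.left.basicOpen f).isOpen hy
  have hclosed : ∀ p : D, ∀ p' : D, p ⤳ p' → c p = c p' → p = p' := by
    intro p p' h he
    by_contra hne
    have hne' : d p ≠ d p' := fun h' => hne (d.isEmbedding.injective h')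
    have h1 : IsClosed ({d p'} : Set X.left) :=
      isClosed_of_specializes_dim_two hdim.le (h.map d.continuous) hne' fun h' => hηD ⟨p, h'⟩
    obtain ⟨q, hq, hqη⟩ := hhor p
    by_cases hqp : d q = d p
    · have h2 := X.hom.isClosedMap _ h1
      rw [Set.image_singleton] at h2
      refine not_isClosed_eta hR ?_
      have h3 : X.hom (d p') = (etaPt : Spec (CommRingCat.of R)) := by
        refine he.symm.trans (PrimeSpectrum.ext ?_)
        rw [← d.isEmbedding.injective hqp]
        exact hqη
      rwa [h3] at h2
    · have h2 : IsClosed ({d p} : Set X.left) :=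
        isClosed_of_specializes_dim_two hdim.le (hq.map d.continuous) hqp fun h' => hηD ⟨q, h'⟩
      exact hne' ((h.map d.continuous).mem_closed h2 rfl).symm
  haveI : IsProper c := inferInstanceAs (IsProper (d ≫ X.hom))
  haveI : LocallyQuasiFinite c := by
    refine LocallyQuasiFinite.of_finite_preimage_singleton c fun s => ?_
    haveI : IsNoetherian D := by
      haveI := LocallyOfFiniteType.isLocallyNoetherian d
      haveI : CompactSpace D := QuasiCompact.compactSpace_of_compactSpace d
      exact {}
    haveI : NoetherianSpace (c.base ⁻¹' {s}) := inferInstance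
    haveI : QuasiSober ↥(c.fiber s) := inferInstance
    haveI : NoetherianSpace ↥(c.fiber s) :=
      (c.fiberι s).isEmbedding.isInducing.noetherianSpace
    obtain ⟨S, hS1, hS2, hS3, hS4⟩ := NoetherianSpace.exists_finite_set_isClosed_irreducible
      (isClosed_univ (X := ↥(c.fiber s)))
    have hfin : (Set.univ : Set ↥(c.fiber s)).Finite := by
      rw [hS4]
      refine Set.Finite.sUnion hS1 fun t ht => ?_
      obtain ⟨w, hw⟩ := QuasiSober.sober (hS3 t ht) (hS2 t ht)
      refine (Set.finite_singleton w).subset fun w' hw' => ?_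
      have hsp := (hw.specializes hw').map (c.fiberι s).continuous
      have hc : ∀ z, c (c.fiberι s z) = s := fun z => (c.range_fiberι s).le ⟨z, rfl⟩
      exact ((c.fiberι s).isEmbedding.injective (hclosed _ _ hsp ((hc w).trans (hc w').symm))).symm
    refine ((hfin.image (c.fiberι s)).subset ?_)
    rw [Set.image_univ, c.range_fiberι]
  haveI : IsFinite c := IsFinite.of_isProper_of_locallyQuasiFinite c
  haveI : IsAffine D := isAffine_of_isAffineHom c
  haveI : IsAffine d.ker.subscheme := IsAffine.of_isIso (inv d.toImage)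
  have hfib : ∀ z, topologicalKrullDim ↥(X.hom.fiber z) ≤ 1 := fiber_dim_le_one hR hdim.le
  let _ : X.left.Over (Spec (CommRingCat.of R)) := ⟨X.hom⟩
  have hv : Lipman24.NoH2 X.left := fun F hF => by
    haveI := hF
    exact H8Lim.subsingleton_HH_of_fibre_dim X.hom 1 (fun y => by exact_mod_cast hfib y) F 2 (by omega)
  have hIi : PicF.IsInvertible (ClSub.idealMod d.ker) := FlatMor12.IdealModGen.isInvertible_idealMod d.ker hD
  have hLi : PicF.IsInvertible L := by
    obtain ⟨tI⟩ := hL
    exact PicM.isInvertible_of_tensor hIi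
      (glocus_isInvertible_of_iso (tensorComm _ _ ≪≫ tI).symm isInvertible_structureModule)
  obtain ⟨u, hu⟩ := AbCubeLib.exists_section_of_effCartier d.ker hD hLi hL
  obtain ⟨N₀, h⟩ := eventually_generated_power d.ker (Coh.toGlobal X.hom) (finCoh_of_isProper X.hom) hv hLi hL hIi u hu
  refine ⟨N₀ + 1, Nat.le_add_left 1 N₀, fun m hm => ?_⟩
  obtain ⟨m', rfl⟩ : ∃ m', m = m' + 1 := ⟨m - 1, by omega⟩
  exact (h m' (by omega)).2.globallyGenerated (isInvertible_tensorPow hLi _)

end Groth.Agent.Models7.HenselContract
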