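import Groth.Agent.Models7.HenselContract.Generated
import Groth.Agent.Models7.HenselContract.Divisor
import Groth.Agent.Models7.ArtinContract

/-!
# Contraction of any proper subset of fibre components over a henselian base
-/

set_option autoImplicit false
set_option backward.isDefEq.respectTransparency false
set_option linter.style.haveILetI false

universe u

open CategoryTheory CategoryTheory.Limits AlgebraicGeometry TopologicalSpace IsLocalRing
open Groth.Agent.Coherent Groth.Agent.PicLib Groth.Agent.AmpleLib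

namespace Groth.Agent.Models7.HenselContract

variable {R : Type u} [CommRing R] [IsDomain R] [IsDiscreteValuationRing R] {X : Over (Spec (CommRingCat.of R))}

/-- An effective Cartier divisor through a closed point of the special fibre which meets no other
point of the fibre there has a point on the generic fibre. -/
theorem exists_horizontal_point [IsIntegral X.left] [IsLocallyNoetherian X.left] {J : X.left.IdealSheafData}
    (hJ : BlowUp.IsEffCartierIdeal J)
    (hfib : ∀ z ∈ (J.support : Set X.left), X.hom z = closedPoint R → IsClosed ({z} : Set X.left))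
    {t g : X.left} (ht : t ∈ (J.support : Set X.left)) (hg : g ⤳ t) (hgt : g ≠ t)
    (hgη : g ≠ genericPoint X.left) :
    ∃ v ∈ (J.support : Set X.left), X.hom v ≠ closedPoint R := by
  obtain ⟨V, htV, f, hf, hJV⟩ := hJ t
  have hV := V.2
  let B := Γ(X.left, V.1)
  haveI : Nonempty V.1 := ⟨⟨t, htV⟩⟩
  haveI : IsNoetherianRing B := IsLocallyNoetherian.component_noetherian V
  have hgV : g ∈ V.1 := hg.mem_open V.1.isOpen htV
  let pt := (hV.primeIdealOf ⟨t, htV⟩).asIdeal
  let pg := (hV.primeIdealOf ⟨g, hgV⟩).asIdeal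
  haveI : pt.IsPrime := (hV.primeIdealOf ⟨t, htV⟩).2
  haveI : pg.IsPrime := (hV.primeIdealOf ⟨g, hgV⟩).2
  have hsupp : ∀ z : V.1, z.1 ∈ (J.support : Set X.left) ↔ f ∈ (hV.primeIdealOf z).asIdeal := fun z => by
    have hb : ∀ a : B, z.1 ∈ X.left.basicOpen a ↔ a ∉ (hV.primeIdealOf z).asIdeal := fun a => by
      have h1 := SetLike.ext_iff.1 (hV.fromSpec_preimage_basicOpen a) (hV.primeIdealOf z)
      change hV.fromSpec (hV.primeIdealOf z) ∈ X.left.basicOpen a ↔ _ at h1
      rw [hV.fromSpec_primeIdealOf] at h1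
      exact h1
    rw [SetLike.mem_coe, J.mem_support_iff_of_mem z.2, Scheme.mem_zeroLocus_iff, hJV]
    constructor
    · intro h
      exact not_not.1 fun hn => h f (Ideal.mem_span_singleton_self f) ((hb f).2 hn)
    · intro h a ha hz
      exact (hb a).1 hz ((Ideal.span_singleton_le_iff_mem _).2 h ha)
  obtain ⟨P, hP, hPle⟩ := Ideal.exists_minimalPrimes_le
    ((Ideal.span_singleton_le_iff_mem _).2 ((hsupp ⟨t, htV⟩).1 ht) : Ideal.span {f} ≤ pt)
  haveI : P.IsPrime := hP.1.1
  have hh : P.height ≤ 1 := Ideal.height_le_one_of_isPrincipal_of_mem_minimalPrimes (Ideal.span {f}) P hP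
  have h0g : (⊥ : Ideal B) < pg := by
    refine bot_lt_iff_ne_bot.2 fun h => hgη ?_
    have hηV : genericPoint X.left ∈ V.1 := (genericPoint_specializes t).mem_open V.1.isOpen htV
    have h1 := (EGA43.Unibranch.primeIdealOf_le_iff' hV ⟨g, hgV⟩ ⟨_, hηV⟩).1 (h.le.trans bot_le)
    exact (h1.antisymm (genericPoint_specializes g)).eq
  have hgtlt : pg < pt := by
    refine lt_of_le_of_ne ((EGA43.Unibranch.primeIdealOf_le_iff' hV ⟨g, hgV⟩ ⟨t, htV⟩).2 hg) fun h => hgt ?_
    exact ((EGA43.Unibranch.primeIdealOf_le_iff' hV ⟨g, hgV⟩ ⟨t, htV⟩).1 h.le).antisymm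
      ((EGA43.Unibranch.primeIdealOf_le_iff' hV ⟨t, htV⟩ ⟨g, hgV⟩).1 h.ge) |>.eq
  have hPne : P ≠ pt := by
    intro h
    have h1 : pg.height < pt.height := Ideal.height_strict_mono_of_isPrime hgtlt
    have h2 : (⊥ : Ideal B).height < pg.height := Ideal.height_strict_mono_of_isPrime h0g
    rw [← h] at h1
    have h3 : pg.height = 0 := ENat.lt_one_iff_eq_zero.1 (lt_of_lt_of_le h1 hh)
    rw [h3] at h2
    exact not_lt_zero h2
  let Pp : PrimeSpectrum B := ⟨P, inferInstance⟩
  have hvV : hV.fromSpec Pp ∈ V.1 := hV.range_fromSpec.le ⟨Pp, rfl⟩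
  have hvP : hV.primeIdealOf ⟨_, hvV⟩ = Pp :=
    hV.fromSpec.isOpenEmbedding.injective (hV.fromSpec_primeIdealOf _)
  refine ⟨hV.fromSpec Pp, (hsupp ⟨_, hvV⟩).2 (by rw [hvP]; exact hP.1.2 (Ideal.mem_span_singleton_self f)), ?_⟩
  intro hv
  have hc := hfib _ ((hsupp ⟨_, hvV⟩).2 (by rw [hvP]; exact hP.1.2 (Ideal.mem_span_singleton_self f))) hv
  have h1 := (EGA43.Unibranch.primeIdealOf_le_iff' hV ⟨_, hvV⟩ ⟨t, htV⟩).1 (by rw [hvP]; exact hPle)
  have h2 : t = hV.fromSpec Pp := h1.mem_closed hc rfl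
  refine hPne ?_
  show P = (hV.primeIdealOf ⟨t, htV⟩).asIdeal
  rw [show (⟨t, htV⟩ : V.1) = ⟨_, hvV⟩ from Subtype.ext h2, hvP]

/-- **Contraction over a henselian discrete valuation ring.** -/
theorem contraction [HenselianLocalRing R] [IsIntegral X.left]
    (hnor : ∀ x : X.left, IsIntegrallyClosed (X.left.presheaf.stalk x))
    (hdim : topologicalKrullDim X.left = 2) [Flat X.hom] [IsProper X.hom] (hproj : Neron.IsProjectiveOver R X)
    {r : ℕ} (Γ : Fin r → ArSurf.VertComp R X)
    (Γ' : ArSurf.VertComp R X)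
    (hΓ' : ∀ i, Set.range (Γ'.ι.base : Γ'.curve.left → X.left) ≠ Set.range (Γ i).ι.base) :
    ∃ (Y : Over (Spec (CommRingCat.of R))) (f : X ⟶ Y),
      IsIntegral Y.left ∧ (∀ q : Y.left, IsIntegrallyClosed (Y.left.presheaf.stalk q)) ∧
      topologicalKrullDim Y.left = 2 ∧ Flat Y.hom ∧ Neron.IsProjectiveOver R Y ∧
      (∀ i, ∃ y : Y.left, Set.range (((Γ i).ι ≫ f.left).base : (Γ i).curve.left → Y.left) = {y}) ∧
      f.left.base ⁻¹' (f.left.base '' ⋃ i, Set.range (Γ i).ι.base) = ⋃ i, Set.range (Γ i).ι.base ∧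
      ∀ V : Y.left.Opens, (V : Set Y.left) ∩ f.left.base '' (⋃ i, Set.range (Γ i).ι.base) = ∅ →
        IsIso (f.left ∣_ V) := by
  classical
  haveI : IsLocallyNoetherian X.left := LocallyOfFiniteType.isLocallyNoetherian X.hom
  haveI : CompactSpace X.left := QuasiCompact.compactSpace_of_compactSpace X.hom
  haveI : IsNoetherian X.left := {}
  have hη : X.hom (genericPoint X.left) ≠ closedPoint R := by
    rw [Inters29.hom_genericPoint R (genericPoint X.left)]; exact Inters29.bot_ne_closedPoint R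
  let G : Set X.left := ⋃ i, Set.range (Γ i).ι.base
  have hGc : IsClosed G := isClosed_iUnion_of_finite fun i => (Γ i).ι.isClosedEmbedding.isClosed_range
  have hGη : genericPoint X.left ∉ G := fun h => by
    obtain ⟨i, hi⟩ := Set.mem_iUnion.1 h
    exact hη (Inters29.range_subset_specialFibreSet R (Γ i) hi)
  obtain ⟨n, Δ, hΔ⟩ := Inters29.exists_componentList R (X := X) hdim
  let gen : ∀ E : ArSurf.VertComp R X, X.left := fun E =>
    haveI := E.isIntegral; E.ι (genericPoint E.curve.left)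
  have hgen : ∀ E : ArSurf.VertComp R X, IsGenericPoint (gen E) (Set.range E.ι.base) := fun E =>
    Inters29.genPt_isGenericPoint R E
  have hgs : ∀ E : ArSurf.VertComp R X, X.hom (gen E) = closedPoint R := fun E =>
    Inters29.range_subset_specialFibreSet R E ((hgen E).mem)
  have hnc : ∀ E : ArSurf.VertComp R X, ¬ IsClosed ({gen E} : Set X.left) := fun E hc => by
    haveI := Inters29.isProper_curve R E
    obtain ⟨y, hy⟩ := Inters29.exists_ne_genericPoint R E
    haveI := E.isIntegral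
    exact hy (E.ι.isClosedEmbedding.injective
      (((genericPoint_specializes y).map E.ι.continuous).mem_closed hc rfl))
  -- points of components off the contracted curves
  have hpoint : ∀ E : ArSurf.VertComp R X,
      (∀ i, Set.range (E.ι.base : E.curve.left → X.left) ≠ Set.range (Γ i).ι.base) →
      ∃ t ∈ Set.range E.ι.base, IsClosed ({t} : Set X.left) ∧ t ∉ G := by
    intro E hE
    haveI := E.isIntegral
    haveI := Inters29.isProper_curve R E
    haveI : JacobsonSpace E.curve.left := LocallyOfFiniteType.jacobsonSpace E.curve.hom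
    have hne : gen E ∉ G := fun h => by
      obtain ⟨i, hi⟩ := Set.mem_iUnion.1 h
      refine hE i ?_
      rw [← (hgen E).def, ← (hgen (Γ i)).def]
      have hsp : gen (Γ i) ⤳ gen E := (hgen (Γ i)).specializes hi
      by_contra hne
      exact hnc E (isClosed_of_specializes_dim_two hdim.le hsp (fun h => hne (by rw [h])) fun h =>
        hη (by rw [← h]; exact hgs (Γ i)))
    obtain ⟨y, hyG, hyc⟩ := nonempty_inter_closedPoints (Z := (E.ι.base ⁻¹' G)ᶜ)
      ⟨genericPoint E.curve.left, hne⟩ (hGc.preimage E.ι.continuous).isOpen_compl.isLocallyClosed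
    refine ⟨E.ι y, ⟨y, rfl⟩, ?_, hyG⟩
    have := E.ι.isClosedEmbedding.isClosedMap _ hyc
    rwa [Set.image_singleton] at this
  choose pick hpick using hpoint
  let T : Finset X.left := (Finset.univ.filter fun j : Fin n =>
      ∀ i, Set.range ((Δ j).ι.base : (Δ j).curve.left → X.left) ≠ Set.range (Γ i).ι.base).attach.image
    fun j => pick (Δ j.1) (Finset.mem_filter.1 j.2).2
  obtain ⟨J, hJ, hJaff, hJG, hJT, hJfib⟩ := exists_divisor hdim hproj G hGc hGη T fun t ht => by
    obtain ⟨j, -, rfl⟩ := Finset.mem_image.1 ht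
    obtain ⟨h1, h2, h3⟩ := hpick (Δ j.1) (Finset.mem_filter.1 j.2).2
    exact ⟨Inters29.range_subset_specialFibreSet R (Δ j.1) h1, h2, h3⟩
  haveI := hJaff
  -- components
  have hcomp : ∀ E : ArSurf.VertComp R X, ∃ j, Set.range (E.ι.base : E.curve.left → X.left) =
      Set.range (Δ j).ι.base := fun E => by
    obtain ⟨j, hj⟩ := Inters29.exists_genPt_specializes R Δ hΔ
      (show gen E ∈ Models.specialFibreSet R X from hgs E)
    refine ⟨j, ?_⟩
    rw [← (hgen E).def, ← (hgen (Δ j)).def]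
    by_contra hne
    exact hnc E (isClosed_of_specializes_dim_two hdim.le hj
      (fun h => hne (by rw [show gen E = gen (Δ j) from h.symm]))
      fun h => hη (by rw [← h]; exact hgs (Δ j)))
  have hmeet : ∀ E : ArSurf.VertComp R X,
      (∀ i, Set.range (E.ι.base : E.curve.left → X.left) ≠ Set.range (Γ i).ι.base) →
      ∃ t ∈ Set.range E.ι.base, t ∈ (J.support : Set X.left) ∧ t ≠ gen E := fun E hE => by
    obtain ⟨j, hj⟩ := hcomp E
    have hE' : ∀ i, Set.range ((Δ j).ι.base : (Δ j).curve.left → X.left) ≠ Set.range (Γ i).ι.base :=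
      fun i => hj ▸ hE i
    have hmem : pick (Δ j) hE' ∈ T := Finset.mem_image.2
      ⟨⟨j, Finset.mem_filter.2 ⟨Finset.mem_univ j, hE'⟩⟩, Finset.mem_attach _ _, rfl⟩
    refine ⟨_, hj ▸ (hpick (Δ j) hE').1, hJT hmem, fun h => hnc E ?_⟩
    rw [← h]; exact (hpick (Δ j) hE').2.1
  -- the module
  let _ : X.left.Over (Spec (CommRingCat.of R)) := ⟨X.hom⟩
  have hfib' : ∀ z, topologicalKrullDim ↥(X.hom.fiber z) ≤ 1 :=
    topologicalKrullDim_fiber_le_one X.hom hdim.le hη
  have hv : Lipman24.NoH2 X.left := fun F hF => by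
    haveI := hF
    exact H8Lim.subsingleton_HH_of_fibre_dim X.hom 1 (fun y => by exact_mod_cast hfib' y) F 2 (by omega)
  have hIi : PicF.IsInvertible (ClSub.idealMod J) := FlatMor12.IdealModGen.isInvertible_idealMod J hJ
  obtain ⟨L, ⟨tI⟩⟩ := VarietyLib.exists_isInverseOf hIi
  have hL : PicF.IsInvertible L :=
    PicM.isInvertible_of_tensor hIi (glocus_isInvertible_of_iso tI.symm isInvertible_structureModule)
  have hinv : ClSub.IsInverseOf L (ClSub.idealMod J) := ⟨tensorComm _ _ ≪≫ tI⟩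
  obtain ⟨u, hu⟩ := AbCubeLib.exists_section_of_effCartier J hJ hL hinv
  obtain ⟨N, hN, s, hs, hgl⟩ := exists_generated_power J (Coh.toGlobal X.hom) (finCoh_of_isProper X.hom) hv hL hinv
    hIi u hu
  obtain ⟨S, hS⟩ := hgl.exists_finset
  let σ : Fin (S.card + 1) → Γ(N, ⊤) := Fin.cons s fun i => (S.equivFin.symm i).1
  have hcov : ∀ x : X.left, ∃ i, x ∈ glocus N (σ i) := fun x => by
    obtain ⟨z, hz, hxz⟩ := hS x
    exact ⟨(S.equivFin ⟨z, hz⟩).succ, by simpa [σ] using hxz⟩
  obtain ⟨φ, hφ, τ, hτ⟩ := UPLib.exists_hom_projSpace S.card X.hom hN σ hcov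
  have hσ : ∀ i, φ ⁻¹ᵁ PnEmb.chartOpen S.card R i = glocus N (σ i) :=
    fun i => PnEmb.preimage_chartOpen φ τ hτ i
  have h0 : ∀ x, φ x ∈ PnEmb.chartOpen S.card R 0 ↔ x ∉ (J.support : Set X.left) := fun x => by
    show x ∈ φ ⁻¹ᵁ PnEmb.chartOpen S.card R 0 ↔ _
    rw [hσ 0, show σ 0 = s from rfl, ← SetLike.mem_coe, hs]
    rfl
  refine exists_contraction R X hnor hdim φ hφ ?_ Γ fun E => ?_
  · intro w
    obtain ⟨t, ht, htJ, htne⟩ := hmeet Γ' hΓ'
    obtain ⟨v, hvJ, hvs⟩ := exists_horizontal_point hJ hJfib htJ ((hgen Γ').specializes ht) (Ne.symm htne)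
      (fun h => hη (h ▸ hgs Γ'))
    by_contra hall
    push Not at hall
    have hηJ : genericPoint X.left ∉ (J.support : Set X.left) := fun h => by
      have hc := (genericPoint_specializes t)
      exact hnc Γ' (hJfib _ (((genericPoint_specializes (gen Γ')).mem_closed J.support.isClosed h)) (hgs Γ'))
    refine (h0 v).1 ?_ hvJ
    rw [(hall v hvs).trans (hall _ hη).symm]
    exact (h0 _).2 hηJ
  · haveI := Inters29.isProper_curve R E
    haveI := E.isIntegral
    constructor
    · intro h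
      by_contra hno
      push Not at hno
      obtain ⟨t, ht, htJ, -⟩ := hmeet E hno
      refine (h0 t).1 ?_ htJ
      rw [h ⟨t, ht, rfl⟩ ⟨gen E, (hgen E).mem, rfl⟩]
      exact (h0 _).2 fun hJg => hnc E (hJfib _ hJg (hgs E))
    · rintro ⟨i, hi⟩
      rw [hi]
      haveI := (Γ i).isIntegral
      haveI := Inters29.isProper_curve R (Γ i)
      obtain ⟨e⟩ := nonempty_pullback_iso_of_glocus (Γ i).ι hN s (by
        rw [hs]
        exact fun x hx hJx => Set.disjoint_left.1 hJG hJx (Set.mem_iUnion.2 ⟨i, hx⟩))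
      exact subsingleton_range_of_trivial φ hN σ hcov hσ (Γ i).ι
        (isField_of_universallyClosed (IsLocalRing.ResidueField R) (Γ i).curve.hom) e

end Groth.Agent.Models7.HenselContract
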